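import Groth.Agent.EtaleSlice.Basic
import Groth.Agent.SmoothSecLib.Basic
import Groth.Agent.QRepLib.Naive
import Mathlib.RingTheory.Smooth.NoetherianDescent
import Mathlib.RingTheory.Ideal.AssociatedPrime.Finiteness
import Mathlib.LinearAlgebra.TensorProduct.Finiteness

/-!
# Étale quasi-sections of a smooth morphism are schematically dominant
-/

set_option autoImplicit false
set_option linter.style.haveILetI false

universe u

open CategoryTheory AlgebraicGeometry TensorProduct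

namespace Groth.Agent.FamCycEt

/-- A nonzero element of a smooth algebra over a field does not vanish at some separable point. -/
theorem exists_sep_hom {K B : Type u} [Field K] [CommRing B] [Algebra K B] [Algebra.Smooth K B] {b : B} (hb : b ≠ 0) :
    ∃ (k' : Type u) (_ : Field k') (_ : Algebra K k'), Algebra.IsSeparable K k' ∧ ∃ ψ : B →ₐ[K] k', ψ b ≠ 0 := by
  haveI : _root_.IsReduced B := QRepLib.isReduced_of_smooth_algebra K B
  let f : Spec (CommRingCat.of B) ⟶ Spec (CommRingCat.of K) := Spec.map (CommRingCat.ofHom (algebraMap K B))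
  haveI : Smooth f := by
    rw [HasRingHomProperty.Spec_iff (P := @Smooth)]
    exact RingHom.smooth_algebraMap.mpr inferInstance
  let O : (Spec (CommRingCat.of B)).Opens := PrimeSpectrum.basicOpen b
  obtain ⟨x, hx⟩ : ∃ x : Spec (CommRingCat.of B), x ∈ O := by
    by_contra h
    push Not at h
    exact hb ((PrimeSpectrum.basicOpen_eq_bot_iff b).1 (TopologicalSpace.Opens.ext (Set.eq_empty_iff_forall_notMem.2 h))).eq_zero
  obtain ⟨k', _, _, -, hsep, t, ht, hO⟩ := SmoothSecLib.exists_separable_point f O hx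
  let φ : CommRingCat.of B ⟶ CommRingCat.of k' := Spec.preimage t
  have hφ : Spec.map φ = t := Spec.map_preimage _
  have hc : CommRingCat.ofHom (algebraMap K B) ≫ φ = CommRingCat.ofHom (algebraMap K k') :=
    Spec.map_injective (by rw [Spec.map_comp, hφ]; exact ht)
  let ψ : B →ₐ[K] k' := { φ.hom with commutes' := fun a => congr($(hc).hom a) }
  refine ⟨k', inferInstance, inferInstance, hsep, ψ, fun h0 => ?_⟩
  rw [← hφ] at hO
  refine hO ?_
  show φ.hom b ∈ (IsLocalRing.closedPoint k').asIdeal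
  rw [show φ.hom b = 0 from h0]
  exact zero_mem _

/-- Through an element not in `pB₀` passes an étale quotient of a basic open on which it stays outside `p`. -/
theorem exists_etale_quotient_notMem {A₀ B₀ : Type u} [CommRing A₀] [CommRing B₀] [Algebra A₀ B₀]
    [Algebra.Smooth A₀ B₀] (p : Ideal A₀) [p.IsPrime] {b : B₀} (hb : b ∉ p.map (algebraMap A₀ B₀)) :
    ∃ (h : B₀) (C : Type u) (_ : CommRing C) (_ : Algebra A₀ C) (φ : Localization.Away h →ₐ[A₀] C),
      Algebra.Etale A₀ C ∧ Function.Surjective φ ∧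
        φ (algebraMap B₀ _ b) ∉ p.map (algebraMap A₀ C) := by
  let K := p.ResidueField
  have hbK : (1 : K) ⊗ₜ[A₀] b ≠ 0 := by
    intro h0
    apply hb
    have hinj : Function.Injective
        ((Algebra.linearMap (A₀ ⧸ p) K).restrictScalars A₀ |>.rTensor B₀) :=
      Module.Flat.rTensor_preserves_injective_linearMap _
        (Ideal.injective_algebraMap_quotient_residueField p)
    have h1 : (1 : A₀ ⧸ p) ⊗ₜ[A₀] b = 0 := by
      apply hinj
      rw [map_zero, LinearMap.rTensor_tmul]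
      simpa using h0
    have h2 := congrArg (TensorProduct.quotTensorEquivQuotSMul B₀ p) h1
    rw [map_zero] at h2
    have h3 : (Submodule.Quotient.mk b : B₀ ⧸ (p • (⊤ : Submodule A₀ B₀))) = 0 := by
      rw [← h2, show (1 : A₀ ⧸ p) = Ideal.Quotient.mk p 1 from rfl,
        TensorProduct.quotTensorEquivQuotSMul_mk_tmul, one_smul]
    rw [Submodule.Quotient.mk_eq_zero, Ideal.smul_top_eq_map] at h3
    exact h3
  obtain ⟨k', _, _, hsep, ψ, hψ⟩ := exists_sep_hom (K := K) (B := K ⊗[A₀] B₀) hbK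
  let χ : B₀ →+* k' := ψ.toRingHom.comp (Algebra.TensorProduct.includeRight : B₀ →ₐ[A₀] K ⊗[A₀] B₀).toRingHom
  have hχ : ∀ a : A₀, χ (algebraMap A₀ B₀ a) = algebraMap K k' (algebraMap A₀ K a) := fun a => by
    show ψ ((1 : K) ⊗ₜ[A₀] algebraMap A₀ B₀ a) = _
    rw [← ψ.commutes]
    congr 1
    rw [Algebra.TensorProduct.algebraMap_apply, Algebra.algebraMap_eq_smul_one, Algebra.algebraMap_eq_smul_one,
      TensorProduct.tmul_smul, TensorProduct.smul_tmul', algebraMap_smul]
  let P : Ideal B₀ := RingHom.ker χ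
  haveI : P.IsPrime := RingHom.ker_isPrime χ
  have hp : p = P.comap (algebraMap A₀ B₀) := by
    ext a
    rw [Ideal.mem_comap, RingHom.mem_ker, hχ, map_eq_zero_iff _ (algebraMap K k').injective,
      Ideal.algebraMap_residueField_eq_zero]
  let ι : P.ResidueField →+* k' := Ideal.ResidueField.lift P χ le_rfl (fun x hx => IsUnit.mk0 _ hx)
  let κ : K →+* P.ResidueField := Ideal.ResidueField.map p P (algebraMap A₀ B₀) hp
  letI : Algebra K P.ResidueField := κ.toAlgebra
  haveI : IsScalarTower A₀ K P.ResidueField := IsScalarTower.of_algebraMap_eq fun a => by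
    rw [IsScalarTower.algebraMap_apply A₀ B₀ P.ResidueField]
    exact (Ideal.ResidueField.map_algebraMap p P (algebraMap A₀ B₀) hp a).symm
  have hικ : ι.comp κ = algebraMap K k' := by
    refine Ideal.ResidueField.ringHom_ext (RingHom.ext fun a => ?_)
    show ι (κ (algebraMap A₀ K a)) = algebraMap K k' (algebraMap A₀ K a)
    rw [show κ (algebraMap A₀ K a) = algebraMap B₀ P.ResidueField (algebraMap A₀ B₀ a) from
      Ideal.ResidueField.map_algebraMap p P (algebraMap A₀ B₀) hp a, Ideal.ResidueField.lift_algebraMap, hχ]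
  haveI : Algebra.IsSeparable K P.ResidueField :=
    Algebra.IsSeparable.of_algHom K k' ({ ι with commutes' := fun a => congr($hικ a) } : P.ResidueField →ₐ[K] k')
  haveI : Algebra.FormallyUnramified A₀ P.ResidueField :=
    haveI := EtaleSlice.formallyUnramified_residueField p
    haveI : Algebra.FormallyUnramified K P.ResidueField := Algebra.FormallyUnramified.of_isSeparable K _
    Algebra.FormallyUnramified.comp A₀ K P.ResidueField
  obtain ⟨h, C, _, _, φ, Q, hC, hφ, hQ, hQP⟩ := EtaleSlice.exists_etale_quotient (R := A₀) P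
  refine ⟨h, C, inferInstance, inferInstance, φ, hC, hφ, fun hmem => ?_⟩
  have hle : p.map (algebraMap A₀ C) ≤ Q := by
    rw [Ideal.map_le_iff_le_comap, hp]
    intro a ha
    rw [Ideal.mem_comap] at ha ⊢
    rw [← hQP, Ideal.mem_comap, Ideal.mem_comap, ← IsScalarTower.algebraMap_apply, AlgHom.commutes] at ha
    exact ha
  have : b ∈ P := by
    rw [← hQP]
    exact hle hmem
  refine hψ ?_
  exact this

/-- The composite of localisation and a quotient, as a linear map. -/
noncomputable abbrev qmap {A₀ B₀ : Type u} [CommRing A₀] [CommRing B₀] [Algebra A₀ B₀] {h : B₀} {C : Type u}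
    [CommRing C] [Algebra A₀ C] (φ : Localization.Away h →ₐ[A₀] C) : B₀ →ₗ[A₀] C :=
  (φ.comp (IsScalarTower.toAlgHom A₀ B₀ (Localization.Away h))).toLinearMap

/-- The property proved by dévissage on the module. -/
def Good (A₀ B₀ : Type u) [CommRing A₀] [CommRing B₀] [Algebra A₀ B₀] (M : Type u) [AddCommGroup M] [Module A₀ M] : Prop :=
  ∀ ξ : M ⊗[A₀] B₀, ξ ≠ 0 → ∃ (h : B₀) (C : Type u) (_ : CommRing C) (_ : Algebra A₀ C)
    (φ : Localization.Away h →ₐ[A₀] C), Algebra.Etale A₀ C ∧ Function.Surjective φ ∧ (qmap φ).lTensor M ξ ≠ 0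

section Devissage

variable {A₀ B₀ : Type u} [CommRing A₀] [CommRing B₀] [Algebra A₀ B₀] [Algebra.Smooth A₀ B₀]

theorem good_quotient (p : Ideal A₀) [p.IsPrime] (N : Type u) [AddCommGroup N] [Module A₀ N]
    (e : N ≃ₗ[A₀] A₀ ⧸ p) : Good A₀ B₀ N := by
  intro ξ hξ
  have hform : ∀ η : (A₀ ⧸ p) ⊗[A₀] B₀, ∃ b : B₀, η = (1 : A₀ ⧸ p) ⊗ₜ b := by
    intro η
    induction η using TensorProduct.induction_on with
    | zero => exact ⟨0, by rw [TensorProduct.tmul_zero]⟩
    | tmul a x =>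
      obtain ⟨a, rfl⟩ := Ideal.Quotient.mk_surjective a
      refine ⟨a • x, ?_⟩
      rw [show (Ideal.Quotient.mk p a) = a • (1 : A₀ ⧸ p) by rw [Algebra.smul_def, mul_one]; rfl,
        TensorProduct.smul_tmul]
    | add x y hx hy =>
      obtain ⟨x, rfl⟩ := hx
      obtain ⟨y, rfl⟩ := hy
      exact ⟨x + y, (TensorProduct.tmul_add _ _ _).symm⟩
  obtain ⟨b, hb⟩ := hform (e.toLinearMap.rTensor B₀ ξ)
  have hbp : b ∉ p.map (algebraMap A₀ B₀) := by
    intro hmem
    apply hξ
    apply (LinearEquiv.rTensor B₀ e).injective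
    rw [map_zero]
    refine hb.trans ?_
    apply (TensorProduct.quotTensorEquivQuotSMul B₀ p).injective
    rw [map_zero, show (1 : A₀ ⧸ p) = Ideal.Quotient.mk p 1 from rfl,
      TensorProduct.quotTensorEquivQuotSMul_mk_tmul, one_smul, Submodule.Quotient.mk_eq_zero, Ideal.smul_top_eq_map]
    exact hmem
  obtain ⟨h, C, _, _, φ, hC, hφ, hnot⟩ := exists_etale_quotient_notMem p hbp
  refine ⟨h, C, inferInstance, inferInstance, φ, hC, hφ, fun h0 => hnot ?_⟩
  have h1 : e.toLinearMap.rTensor C ((qmap φ).lTensor N ξ) = (qmap φ).lTensor (A₀ ⧸ p) (e.toLinearMap.rTensor B₀ ξ) := by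
    rw [← LinearMap.comp_apply, LinearMap.rTensor_comp_lTensor, ← LinearMap.lTensor_comp_rTensor, LinearMap.comp_apply]
  rw [h0, map_zero, hb, LinearMap.lTensor_tmul] at h1
  have h2 := congrArg (TensorProduct.quotTensorEquivQuotSMul C p) h1.symm
  rw [map_zero, show (1 : A₀ ⧸ p) = Ideal.Quotient.mk p 1 from rfl,
    TensorProduct.quotTensorEquivQuotSMul_mk_tmul, one_smul, Submodule.Quotient.mk_eq_zero, Ideal.smul_top_eq_map] at h2
  exact h2

theorem good_of_exact {N₁ N₂ N₃ : Type u} [AddCommGroup N₁] [Module A₀ N₁] [AddCommGroup N₂] [Module A₀ N₂]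
    [AddCommGroup N₃] [Module A₀ N₃] (f : N₁ →ₗ[A₀] N₂) (g : N₂ →ₗ[A₀] N₃) (hf : Function.Injective f)
    (hg : Function.Surjective g) (hfg : Function.Exact f g) (h₁ : Good A₀ B₀ N₁) (h₃ : Good A₀ B₀ N₃) :
    Good A₀ B₀ N₂ := by
  intro ξ hξ
  by_cases h : g.rTensor B₀ ξ = 0
  · obtain ⟨ζ, hζ⟩ := (rTensor_exact B₀ hfg hg ξ).1 h
    obtain ⟨h, C, _, _, φ, hC, hφ, hne⟩ := h₁ ζ fun h0 => hξ (by rw [← hζ, h0, map_zero])
    refine ⟨h, C, inferInstance, inferInstance, φ, hC, hφ, fun h0 => hne ?_⟩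
    apply Module.Flat.rTensor_preserves_injective_linearMap (M := C) f hf
    rw [map_zero, ← LinearMap.comp_apply, LinearMap.rTensor_comp_lTensor, ← LinearMap.lTensor_comp_rTensor,
      LinearMap.comp_apply, hζ, h0]
  · obtain ⟨h', C, _, _, φ, hC, hφ, hne⟩ := h₃ _ h
    refine ⟨h', C, inferInstance, inferInstance, φ, hC, hφ, fun h0 => hne ?_⟩
    rw [← LinearMap.comp_apply, LinearMap.lTensor_comp_rTensor, ← LinearMap.rTensor_comp_lTensor,
      LinearMap.comp_apply, h0, map_zero]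

theorem good [IsNoetherianRing A₀] (M : Type u) [AddCommGroup M] [Module A₀ M] : Good A₀ B₀ M := by
  intro ξ hξ
  obtain ⟨M', hfin, hM'⟩ := TensorProduct.exists_finite_submodule_left_of_setFinite {ξ} (Set.finite_singleton ξ)
  obtain ⟨ζ, hζ⟩ := hM' (Set.mem_singleton ξ)
  have hM : Good A₀ B₀ M' :=
    IsNoetherianRing.induction_on_isQuotientEquivQuotientPrime A₀ hfin
      (motive := fun N _ _ _ => Good A₀ B₀ N)
      (fun N _ _ _ _ ξ h => absurd (Subsingleton.elim ξ 0) h)
      (fun N _ _ _ p e => haveI := p.isPrime; good_quotient p.1 N e)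
      (fun N₁ _ _ _ N₂ _ _ _ N₃ _ _ _ f g hf hg hfg h₁ h₃ => good_of_exact f g hf hg hfg h₁ h₃)
  obtain ⟨h, C, _, _, φ, hC, hφ, hne⟩ := hM ζ fun h0 => hξ (by rw [← hζ, h0, map_zero])
  refine ⟨h, C, inferInstance, inferInstance, φ, hC, hφ, fun h0 => hne ?_⟩
  apply Module.Flat.rTensor_preserves_injective_linearMap (M := C) M'.subtype M'.injective_subtype
  rw [map_zero, ← LinearMap.comp_apply, LinearMap.rTensor_comp_lTensor, ← LinearMap.lTensor_comp_rTensor,
    LinearMap.comp_apply, hζ, h0]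

end Devissage

theorem exists_ideal_of_surjective {A B D C : Type u} [CommRing A] [CommRing B] [CommRing D] [CommRing C]
    [Algebra A B] [Algebra A D] [Algebra B D] [IsScalarTower A B D] [Algebra A C] [Algebra.Etale A C]
    (ψ : D →ₐ[A] C) (hψ : Function.Surjective ψ) {t : B} (ht : ψ (algebraMap B D t) ≠ 0) :
    ∃ I : Ideal D, Algebra.Etale A (D ⧸ I) ∧ algebraMap B (D ⧸ I) t ≠ 0 := by
  refine ⟨RingHom.ker ψ, Algebra.Etale.of_equiv (Ideal.quotientKerAlgEquivOfSurjective hψ).symm, fun h0 => ht ?_⟩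
  rw [IsScalarTower.algebraMap_apply B D (D ⧸ RingHom.ker ψ), Ideal.Quotient.algebraMap_eq,
    Ideal.Quotient.eq_zero_iff_mem] at h0
  exact h0

/-- A nonzero element of a smooth algebra is nonzero on some quotient of a basic open that is étale over the base. -/
theorem exists_etale_quotient_ne_zero {A B : Type u} [CommRing A] [CommRing B] [Algebra A B] [Algebra.Smooth A B]
    {t : B} (ht : t ≠ 0) :
    ∃ (h : B) (I : Ideal (Localization.Away h)), Algebra.Etale A (Localization.Away h ⧸ I) ∧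
      algebraMap B (Localization.Away h ⧸ I) t ≠ 0 := by
  obtain ⟨A₀, B₀, _, _, hfg, hsm, ⟨e⟩⟩ := Algebra.Smooth.exists_subalgebra_fg ℤ A B
  haveI : Algebra.FiniteType ℤ A₀ := (Subalgebra.fg_iff_finiteType A₀).1 hfg
  haveI : IsNoetherianRing A₀ := Algebra.FiniteType.isNoetherianRing ℤ A₀
  obtain ⟨h₀, C₀, _, _, φ₀, hC₀, hφ₀, hne⟩ := good (A₀ := A₀) (B₀ := B₀) A (e t) (by simpa using ht)
  let C := A ⊗[A₀] C₀
  haveI : Algebra.Etale A C := inferInstanceAs (Algebra.Etale A (A ⊗[A₀] C₀))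
  let Φ : A ⊗[A₀] B₀ →ₐ[A] C := Algebra.TensorProduct.map (AlgHom.id A A)
    (φ₀.comp (IsScalarTower.toAlgHom A₀ B₀ (Localization.Away h₀)))
  have hΦ : ∀ z, Φ z = (qmap φ₀).lTensor A z := by
    intro z
    induction z using TensorProduct.induction_on with
    | zero => simp
    | tmul a b => rfl
    | add x y hx hy => rw [map_add, map_add, hx, hy]
  let Θ : B →ₐ[A] C := Φ.comp e.toAlgHom
  let h : B := e.symm (1 ⊗ₜ h₀)
  have hu : IsUnit (Θ h) := by
    show IsUnit (Φ (e (e.symm (1 ⊗ₜ h₀))))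
    rw [AlgEquiv.apply_symm_apply]
    exact ((IsLocalization.Away.algebraMap_isUnit h₀).map φ₀).map
      (Algebra.TensorProduct.includeRight : C₀ →ₐ[A₀] A ⊗[A₀] C₀)
  let ψ : Localization.Away h →ₐ[A] C := IsLocalization.liftAlgHom (M := Submonoid.powers h) (f := Θ)
    (fun y => by obtain ⟨_, n, rfl⟩ := y; simpa only [map_pow] using hu.pow n)
  have hψΘ : ∀ x : B, ψ (algebraMap B (Localization.Away h) x) = Θ x := fun x => IsLocalization.lift_eq _ x
  have hψ : Function.Surjective ψ := by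
    intro c
    induction c using TensorProduct.induction_on with
    | zero => exact ⟨0, map_zero _⟩
    | add x y hx hy =>
      obtain ⟨x, rfl⟩ := hx
      obtain ⟨y, rfl⟩ := hy
      exact ⟨x + y, map_add _ _ _⟩
    | tmul a c =>
      obtain ⟨y, rfl⟩ := hφ₀ c
      obtain ⟨⟨x, ⟨_, n, rfl⟩⟩, hx⟩ := IsLocalization.surj (Submonoid.powers h₀) y
      refine ⟨IsLocalization.mk' _ (e.symm (a ⊗ₜ x)) (⟨h ^ n, n, rfl⟩ : Submonoid.powers h), ?_⟩
      have hm : ψ (IsLocalization.mk' _ (e.symm (a ⊗ₜ x)) (⟨h ^ n, n, rfl⟩ : Submonoid.powers h)) * Θ h ^ n =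
          Θ (e.symm (a ⊗ₜ x)) := by
        have := congrArg ψ (IsLocalization.mk'_spec (Localization.Away h) (e.symm (a ⊗ₜ x))
          (⟨h ^ n, n, rfl⟩ : Submonoid.powers h))
        rw [map_mul, hψΘ, hψΘ, map_pow] at this
        exact this
      refine (hu.pow n).mul_right_cancel (hm.trans ?_)
      show Φ (e (e.symm (a ⊗ₜ x))) = (a ⊗ₜ φ₀ y) * Φ (e (e.symm (1 ⊗ₜ h₀))) ^ n
      rw [AlgEquiv.apply_symm_apply, AlgEquiv.apply_symm_apply]
      show a ⊗ₜ φ₀ (algebraMap B₀ _ x) = (a ⊗ₜ φ₀ y) * ((1 : A) ⊗ₜ φ₀ (algebraMap B₀ _ h₀)) ^ n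
      rw [Algebra.TensorProduct.tmul_pow, one_pow, Algebra.TensorProduct.tmul_mul_tmul, mul_one, ← map_pow φ₀,
        ← map_mul φ₀, ← map_pow (algebraMap B₀ _), hx]
  have hval : ψ (algebraMap B (Localization.Away h) t) ≠ 0 := by
    intro h1
    apply hne
    rw [← hΦ]
    rw [hψΘ] at h1
    exact h1
  obtain ⟨I, hI, hI'⟩ := exists_ideal_of_surjective ψ hψ hval
  exact ⟨h, I, hI, hI'⟩

/-- A basic piece of an étale quasi-section. -/
noncomputable def emb {X : Scheme.{u}} (W : X.affineOpens) (h : Γ(X, W.1)) (I : Ideal (Localization.Away h)) :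
    Spec (CommRingCat.of (Localization.Away h ⧸ I)) ⟶ X :=
  Spec.map (CommRingCat.ofHom (Ideal.Quotient.mk I)) ≫
    Spec.map (CommRingCat.ofHom (algebraMap Γ(X, W.1) (Localization.Away h))) ≫ W.2.fromSpec

theorem isImmersion_emb {X : Scheme.{u}} (W : X.affineOpens) (h : Γ(X, W.1)) (I : Ideal (Localization.Away h)) :
    IsImmersion (emb W h I) := by
  haveI : IsClosedImmersion (Spec.map (CommRingCat.ofHom (Ideal.Quotient.mk I))) :=
    IsClosedImmersion.spec_of_surjective _ Ideal.Quotient.mk_surjective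
  haveI : IsOpenImmersion (Spec.map (CommRingCat.ofHom (algebraMap Γ(X, W.1) (Localization.Away h)))) :=
    IsOpenImmersion.of_isLocalization h
  unfold emb
  infer_instance

/-- The small family of affine étale quasi-sections of `p`. -/
def QS {X S : Scheme.{u}} (p : X ⟶ S) : Type u :=
  (W : X.affineOpens) × (h : Γ(X, W.1)) × {I : Ideal (Localization.Away h) // Etale (emb W h I ≫ p)}

theorem map_res_eq_zero {X : Scheme.{u}} {W V : X.Opens} (hW : IsAffineOpen W) (hWV : W ≤ V) {R : CommRingCat.{u}}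
    (φ : Γ(X, W) ⟶ R) (t : Γ(X, V)) (h1 : (Spec.map φ ≫ hW.fromSpec).app V t = 0) :
    φ (X.presheaf.map (homOfLE hWV).op t) = 0 := by
  have e1 : (⊤ : (Spec R).Opens) ≤ (Spec.map φ ≫ hW.fromSpec) ⁻¹ᵁ W := by
    rintro y -
    show (Spec.map φ ≫ hW.fromSpec) y ∈ W
    rw [← SetLike.mem_coe, ← hW.range_fromSpec]
    exact ⟨Spec.map φ y, rfl⟩
  have h2 : (Spec.map φ ≫ hW.fromSpec).appLE W ⊤ e1 (X.presheaf.map (homOfLE hWV).op t) = 0 := by
    rw [← ConcreteCategory.comp_apply, Scheme.Hom.map_appLE, Scheme.Hom.appLE, ConcreteCategory.comp_apply, h1, map_zero]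
  have h3 : (Spec.map φ ≫ hW.fromSpec).appLE W ⊤ e1 = φ ≫ (Scheme.ΓSpecIso _).inv := by
    have ea : (⊤ : (Spec Γ(X, W)).Opens) ≤ hW.fromSpec ⁻¹ᵁ W := hW.fromSpec_preimage_self.ge
    have eb : (⊤ : (Spec R).Opens) ≤ Spec.map φ ⁻¹ᵁ ⊤ := le_top
    rw [← Scheme.Hom.appLE_comp_appLE (Spec.map φ) hW.fromSpec W ⊤ ⊤ ea eb, Scheme.ΓSpecIso_inv_naturality]
    congr 1
    rw [Scheme.Hom.appLE, hW.fromSpec_app_self, Category.assoc, ← Functor.map_comp]
    exact Category.comp_id _
  rw [h3, ConcreteCategory.comp_apply] at h2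
  exact (map_eq_zero_iff _ (Scheme.ΓSpecIso R).commRingCatIsoToRingEquiv.symm.injective).1 h2

theorem eq_zero_of_forall_emb {X S : Scheme.{u}} (p : X ⟶ S) [Smooth p] (V : X.Opens) (t : Γ(X, V))
    (ht : ∀ (W : X.affineOpens) (h : Γ(X, W.1)) (I : Ideal (Localization.Away h)),
      Etale (emb W h I ≫ p) → (emb W h I).app V t = 0) : t = 0 := by
  refine TopCat.Presheaf.section_ext X.sheaf V t 0 fun z hz => ?_
  obtain ⟨U, hU, hzU, -⟩ := exists_isAffineOpen_mem_and_subset (x := p z) (U := ⊤) trivial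
  obtain ⟨W, hW, hzW, hle⟩ := exists_isAffineOpen_mem_and_subset (x := z) (U := V ⊓ p ⁻¹ᵁ U) ⟨hz, hzU⟩
  have hWV : W ≤ V := fun y hy => (hle hy).1
  have hWU : W ≤ p ⁻¹ᵁ U := fun y hy => (hle hy).2
  suffices h0 : X.presheaf.map (homOfLE hWV).op t = 0 by
    refine (X.presheaf.germ_res_apply (homOfLE hWV) z hzW t).symm.trans ?_
    exact (congrArg _ h0).trans ((map_zero _).trans (map_zero _).symm)
  by_contra hne
  algebraize [(p.appLE U W hWU).hom]
  haveI : Algebra.Smooth Γ(S, U) Γ(X, W) := by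
    have := HasRingHomProperty.appLE @Smooth p inferInstance ⟨U, hU⟩ ⟨W, hW⟩ hWU
    exact this
  obtain ⟨h, I, hE, hI⟩ := exists_etale_quotient_ne_zero (A := Γ(S, U)) hne
  let φ : Γ(X, W) ⟶ CommRingCat.of (Localization.Away h ⧸ I) :=
    CommRingCat.ofHom (algebraMap Γ(X, W) (Localization.Away h ⧸ I))
  have hemb : emb ⟨W, hW⟩ h I = Spec.map φ ≫ hW.fromSpec := by
    rw [emb, ← Category.assoc, ← Spec.map_comp]
    rfl
  have hEt : Etale (emb ⟨W, hW⟩ h I ≫ p) := by
    have hcomp : emb ⟨W, hW⟩ h I ≫ p =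
        Spec.map (CommRingCat.ofHom (algebraMap Γ(S, U) (Localization.Away h ⧸ I))) ≫ hU.fromSpec := by
      rw [hemb, Category.assoc, ← IsAffineOpen.SpecMap_appLE_fromSpec p hU hW hWU, ← Category.assoc, ← Spec.map_comp]
      rfl
    rw [hcomp]
    haveI : Etale (Spec.map (CommRingCat.ofHom (algebraMap Γ(S, U) (Localization.Away h ⧸ I)))) := by
      rw [HasRingHomProperty.Spec_iff (P := @Etale)]
      exact RingHom.etale_algebraMap.mpr hE
    infer_instance
  have h1 : (emb ⟨W, hW⟩ h I).app V t = 0 := ht ⟨W, hW⟩ h I hEt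
  rw [hemb] at h1
  exact hI (map_res_eq_zero hW hWV φ t h1)

end Groth.Agent.FamCycEt
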